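import Cfsg.Agent.H710.VanCount
import Cfsg.Agent.LThreeFi22.Inst
import Cfsg.Agent.Schreier.Flag_m3
import Cfsg.Agent.PreUniqCo.FiTwentyTwo
import Cfsg.Agent.FastGrp
import Cfsg.Agent.Prune
set_option linter.all false
prune_inst 0x7f00000000000000000000000000000000000000000000000000000000000000000000000000000000000000000000000000000000000000000000000000000000000000000000000000000000000000003fffffffffffffffffffffffffffbeffbdffffffff
open scoped Cfsg.Agent.FastGrp

/-!
# `Fi₂₂`: characters of defect zero, and the row (helper713)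

* `cent_11` : elements of order `11` have centralizers of order `22`
* `hasDZ_11`, `hasDZ_13`
* `exists_22` : an element of order `22`
* `row_fi22` : the row of `Fi₂₂`
-/

set_option autoImplicit false

namespace Cfsg.Agent.H713.Spor.Fi22

open Cfsg Cfsg.Agent.LThreeFi22 Cfsg.Agent.KFacts.FiTT Cfsg.Agent.R01.Label Cfsg.Agent.R01.Lifts
open Cfsg.Agent.SporRec.GF4
open Subgroup
open Cfsg.Agent.H665.NoPQ Cfsg.Agent.H713.Count

universe u v

variable {K : Type v} [Group K] (e : K ≃* Spor.Fi22)

/-- the unique transposition commuting with an element of order 11 -/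
theorem unique_eleven {T : Set K} (C : Ctx K T) {y : K} (hy : y ^ 11 = 1) (hy1 : y ≠ 1) {d f : K}
    (hd : d ∈ Fx T y) (hf : f ∈ Fx T y) : f = d := by
  by_contra hne
  by_cases hc : d * f = f * d
  · exact C.iso7 11 (Or.inr rfl) y hy hy1 d hd.1 hd.2 f hf.1 hne hc hf.2
  · have h1 := C.cube hd.1 hf.1 hc
    have h2 : d * f = 1 := C.eleven hy hy1 h1 (by
      have h3 := hd.2
      have h4 := hf.2
      calc d * f * y = d * (f * y) := by group
        _ = (d * y) * f := by rw [← h4]; group
        _ = y * (d * f) := by rw [← h3]; group)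
    have h3 := C.sq d hd.1
    apply hne
    exact (eq_inv_of_mul_eq_one_right h2).trans (eq_inv_of_mul_eq_one_right h3).symm

theorem exists_eleven {T : Set K} (C : Ctx K T) {y : K} (hy : y ^ 11 = 1) : ∃ d, d ∈ Fx T y := by
  have h1 := C.fx_mod (by norm_num : Nat.Prime 11) hy
  exact C.exists_mem (y := y) (by intro h; rw [h] at h1; revert h1; decide)

theorem comm_eleven {T : Set K} (C : Ctx K T) {y : K} (hy : y ^ 11 = 1) (hy1 : y ≠ 1) {d x : K}
    (hd : d ∈ Fx T y) (hx : x * y = y * x) : x * d = d * x :=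
  mul_inv_eq_iff_eq_mul.1 (unique_eleven C hy hy1 hd (C.fx_conj hx hd))

/-- the 2-elements of `C(y)`, `y` of order 11 -/
theorem two_eleven {y : K} (hy : y ^ 11 = 1) (hy1 : y ≠ 1) {d x : K}
    (hd : d ∈ Fx (TK e) y) (hx : x * y = y * x) (hx4 : x ^ 4 = 1) : x = 1 ∨ x = d := by
  have C := Inst.ctx e
  obtain ⟨π, lift, B⟩ := Inst.base_at e hd.1
  have hxd := comm_eleven C hy hy1 hd hx
  let x' : Subgroup.centralizer ({d} : Set K) := ⟨x, mem_centralizer_singleton_iff.2 hxd⟩
  let y' : Subgroup.centralizer ({d} : Set K) := ⟨y, mem_centralizer_singleton_iff.2 hd.2⟩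
  have hxy : x' * y' = y' * x' := Subtype.ext hx
  have hy' : (π y') ^ 11 = 1 := by
    rw [← map_pow, show y' ^ 11 = 1 from Subtype.ext hy, map_one]
  have hy1' : π y' ≠ 1 := by
    intro h
    rcases (B.lab.ext.ker _).1 h with h1 | h1
    · exact hy1 (congrArg Subtype.val h1)
    · have h2 : y = d := congrArg Subtype.val h1
      rw [h2] at hy
      have h3 := C.sq d hd.1
      have h4 : d = 1 := by
        calc d = d ^ 11 * (d * d)⁻¹ ^ 5 := by group
          _ = 1 := by rw [hy, h3, inv_one, one_pow, one_mul]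
      exact C.ne1 d hd.1 h4
  have hF : Fintype.card F4 = 4 := Cfsg.Agent.Fischer.Unit22.hF
  have h2 : (π x') * (π x') * ((π x') * (π x')) = 1 := by
    rw [← map_mul, ← map_mul, show x' * x' * (x' * x') = 1 from Subtype.ext (by
      show x * x * (x * x) = 1
      rw [← hx4]; simp only [pow_succ, pow_zero, one_mul, mul_assoc]), map_one]
  have hc : π x' * π y' = π y' * π x' := by rw [← map_mul, ← map_mul, hxy]
  have h3 : (π x') * (π x') = 1 := by
    refine Cfsg.Agent.Schreier.U6Eleven.main hF h2 hy' hy1' ?_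
    calc π x' * π x' * π y' = π x' * (π x' * π y') := mul_assoc _ _ _
      _ = π x' * (π y' * π x') := by rw [hc]
      _ = (π x' * π y') * π x' := (mul_assoc _ _ _).symm
      _ = (π y' * π x') * π x' := by rw [hc]
      _ = π y' * (π x' * π x') := mul_assoc _ _ _
  have h4 : π x' = 1 := Cfsg.Agent.Schreier.U6Eleven.main hF h3 hy' hy1' hc
  rcases (B.lab.ext.ker _).1 h4 with h5 | h5
  · exact Or.inl (congrArg Subtype.val h5)
  · exact Or.inr (congrArg Subtype.val h5)

/-- an element commuting with `y` of order 11 and moving at most nine points -/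
theorem not_comm_of_card {T : Set K} (C : Ctx K T) {y : K} (hy : y ^ 11 = 1) (hy1 : y ≠ 1) {w : K}
    (hw : w * y = y * w) {n : ℕ} (hn : (Fx T w).ncard = n) (h2 : 2 ≤ n) (h10 : n ≤ 10) : False := by
  have := C.finite
  have h1 := fix_modEq (r := 11) (by norm_num) hy (S := Fx T w) (fun s hs => C.fx_conj hw.symm hs)
  have h3 : {s | s ∈ Fx T w ∧ y * s = s * y}.ncard ≤ 1 := by
    rw [Set.ncard_le_one_iff]
    rintro a b ⟨ha, hya⟩ ⟨hb, hyb⟩
    exact unique_eleven C hy hy1 (d := b) ⟨hb.1, hyb⟩ ⟨ha.1, hya⟩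
  rw [hn] at h1
  generalize {s | s ∈ Fx T w ∧ y * s = s * y}.ncard = m at h1 h3
  have h4 := h1
  unfold Nat.ModEq at h4
  omega

theorem pow_ne {y : K} {n : ℕ} (hy : y ^ 11 = 1) (hyn : y ^ n = 1) (hc : Nat.Coprime 11 n) : y = 1 := by
  have h1 : orderOf y ∣ Nat.gcd 11 n := Nat.dvd_gcd (orderOf_dvd_of_pow_eq_one hy) (orderOf_dvd_of_pow_eq_one hyn)
  rw [hc] at h1
  exact orderOf_eq_one_iff.1 (Nat.dvd_one.1 h1)

include e in
/-- **The centralizer of an element of order `11` has order `22`.** -/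
theorem cent_11 {y : K} (hy : orderOf y = 11) : Nat.card (centralizer ({y} : Set K)) = 22 := by
  have C := Inst.ctx e
  have hfin := C.finite
  have hy11 : y ^ 11 = 1 := by rw [← hy, pow_orderOf_eq_one]
  have hy1 : y ≠ 1 := by
    rintro rfl
    rw [orderOf_one] at hy
    norm_num at hy
  obtain ⟨d, hd⟩ := exists_eleven C hy11
  set n := Nat.card (centralizer ({y} : Set K)) with hn
  have hnK : n ∣ 64561751654400 := by
    rw [← C.card]
    exact Subgroup.card_subgroup_dvd_card _
  have hprime : ∀ r : ℕ, r.Prime → r ∣ n → ∃ x : K, orderOf x = r ∧ x * y = y * x := by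
    intro r hr hd
    have : Fact r.Prime := ⟨hr⟩
    obtain ⟨⟨x, hx⟩, hxo⟩ := exists_prime_orderOf_dvd_card' r hd
    rw [Subgroup.orderOf_mk] at hxo
    exact ⟨x, hxo, mem_centralizer_singleton_iff.1 hx⟩
  have h3 : ¬ 3 ∣ n := by
    intro h
    obtain ⟨x, hx, hxy⟩ := hprime 3 (by norm_num) h
    have h1 := C.eleven hy11 hy1 (x := x) (by rw [← hx, pow_orderOf_eq_one]) hxy
    rw [h1, orderOf_one] at hx
    norm_num at hx
  have h5 : ¬ 5 ∣ n := by
    intro h
    obtain ⟨x, hx, hxy⟩ := hprime 5 (by norm_num) h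
    have hx5 : x ^ 5 = 1 := by rw [← hx, pow_orderOf_eq_one]
    have hx1 : x ≠ 1 := by
      rintro rfl
      rw [orderOf_one] at hx
      norm_num at hx
    obtain ⟨t, ht, hxt⟩ := C.ex5 x hx5 hx1
    exact not_comm_of_card C hy11 hy1 hxy (C.five_far hx5 hx1 (d := t) ⟨ht, hxt⟩).1 (by norm_num) (by norm_num)
  have h7 : ¬ 7 ∣ n := by
    intro h
    obtain ⟨x, hx, hxy⟩ := hprime 7 (by norm_num) h
    have hx7 : x ^ 7 = 1 := by rw [← hx, pow_orderOf_eq_one]
    have hx1 : x ≠ 1 := by
      rintro rfl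
      rw [orderOf_one] at hx
      norm_num at hx
    exact not_comm_of_card C hy11 hy1 hxy (C.seven_card hx7 hx1) (by norm_num) (by norm_num)
  have h13 : ¬ 13 ∣ n := by
    intro h
    obtain ⟨x, hx, hxy⟩ := hprime 13 (by norm_num) h
    have h1 := Cfsg.Agent.PreUniqCo.FiTwentyTwo.thirteen e hx hxy.symm
    exact hy1 (pow_ne hy11 h1 (by norm_num))
  have h4 : ¬ 4 ∣ n := by
    classical
    intro h
    have : Fact (Nat.Prime 2) := ⟨Nat.prime_two⟩
    obtain ⟨Q, hQ⟩ := Sylow.exists_subgroup_card_pow_prime 2 (n := 2)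
      (show 2 ^ 2 ∣ Nat.card (centralizer ({y} : Set K)) by rw [← hn]; exact h)
    have hle : ∀ x : Q, ((x : centralizer ({y} : Set K)) : K) = 1 ∨ ((x : centralizer ({y} : Set K)) : K) = d := by
      intro x
      refine two_eleven e hy11 hy1 hd (mem_centralizer_singleton_iff.1 (x : centralizer ({y} : Set K)).2) ?_
      have h1 : x ^ 4 = 1 := by
        have := pow_card_eq_one' (G := Q) (x := x)
        rwa [hQ] at this
      have h2 := congrArg (fun z : Q => ((z : centralizer ({y} : Set K)) : K)) h1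
      simpa using h2
    have hcard : Nat.card Q ≤ 2 := by
      have hinj : Function.Injective (fun x : Q => (decide (((x : centralizer ({y} : Set K)) : K) = 1))) := by
        intro a b hab
        have hab : (((a : centralizer ({y} : Set K)) : K) = 1) ↔ (((b : centralizer ({y} : Set K)) : K) = 1) := by
          simpa [decide_eq_decide] using hab
        apply Subtype.ext
        apply Subtype.ext
        rcases hle a with h1 | h1
        · rw [h1, hab.1 h1]
        · rcases hle b with h2 | h2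
          · rw [hab.2 h2, h2]
          · rw [h1, h2]
      have := Nat.card_le_card_of_injective _ hinj
      simpa using this
    rw [hQ] at hcard
    norm_num at hcard
  have h2 : 2 ∣ n := by
    have hd2 : orderOf d = 2 := orderOf_eq_prime (by rw [pow_two]; exact C.sq d hd.1) (C.ne1 d hd.1)
    have hm : d ∈ centralizer ({y} : Set K) := mem_centralizer_singleton_iff.2 hd.2.symm
    rw [hn, ← hd2, ← Subgroup.orderOf_mk d hm]
    exact orderOf_dvd_natCard _
  have h11 : 11 ∣ n := by
    have hm : y ∈ centralizer ({y} : Set K) := mem_centralizer_singleton_iff.2 rfl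
    rw [hn, ← hy, ← Subgroup.orderOf_mk y hm]
    exact orderOf_dvd_natCard _
  have hco : Nat.Coprime n (3 ^ 9 * 5 ^ 2 * 7 * 13) := by
    have k3 := ((Nat.Prime.coprime_iff_not_dvd (by norm_num)).2 h3).symm
    have k5 := ((Nat.Prime.coprime_iff_not_dvd (by norm_num)).2 h5).symm
    have k7 := ((Nat.Prime.coprime_iff_not_dvd (by norm_num)).2 h7).symm
    have k13 := ((Nat.Prime.coprime_iff_not_dvd (by norm_num)).2 h13).symm
    exact (((k3.pow_right 9).mul_right (k5.pow_right 2)).mul_right k7).mul_right k13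
  have h22 : n ∣ 2 ^ 17 * 11 := by
    refine hco.dvd_of_dvd_mul_left ?_
    have : (3 ^ 9 * 5 ^ 2 * 7 * 13) * (2 ^ 17 * 11) = 64561751654400 := by norm_num
    rw [this]
    exact hnK
  obtain ⟨m, hm⟩ : 22 ∣ n := Nat.Coprime.mul_dvd_of_dvd_of_dvd (m := 2) (n := 11) (by norm_num) h2 h11
  rw [hm] at h22 h4
  have h16 : m ∣ 2 ^ 16 := by
    have : (2 : ℕ) ^ 17 * 11 = 22 * 2 ^ 16 := by norm_num
    rw [this] at h22
    exact Nat.dvd_of_mul_dvd_mul_left (by norm_num) h22
  have hodd : ¬ 2 ∣ m := by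
    rintro ⟨k, rfl⟩
    exact h4 ⟨11 * k, by ring⟩
  obtain ⟨k, -, hk⟩ := (Nat.dvd_prime_pow Nat.prime_two).1 h16
  rcases Nat.eq_zero_or_pos k with h0 | h0
  · rw [hm, hk, h0, pow_zero, mul_one]
  · exact absurd (hk ▸ dvd_pow_self 2 h0.ne') hodd

include e in
theorem card_fi22 : Nat.card K = 64561751654400 := (Inst.ctx e).card

include e in
/-- elements of order 11 are not real -/
theorem not_real {y : K} (hy : orderOf y = 11) : ¬ IsConj y y⁻¹ := by
  intro hinv
  have C := Inst.ctx e
  have hfin := C.finite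
  have : Fact (Nat.Prime 11) := ⟨by norm_num⟩
  have hy11 : y ^ 11 = 1 := by rw [← hy, pow_orderOf_eq_one]
  have h1 := even_fus (p := 11) hy11 (by norm_num) hinv
  have hf : (Nat.card K).factorization 11 = 1 :=
    factorization_eq_one (by rw [C.card]; norm_num) (by rw [C.card]; norm_num)
  have h2 := card_fus_mul (p := 11) hf hy (c := 2) (by rw [cent_11 e hy])
  have h3 := card_fus_dvd (p := 11) hy11
  rw [C.card] at h2
  generalize (fus (p := 11) y).card = f at h1 h2 h3
  have h4 : f ≤ 10 := Nat.le_of_dvd (by norm_num) h3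
  unfold Nat.ModEq at h2
  interval_cases f <;> first | omega | (revert h1; decide) | (revert h3; decide)

include e in
/-- **A character of `11`-defect zero.** -/
theorem hasDZ_11 : HasDZ 11 K := by
  have C := Inst.ctx e
  have hfin := C.finite
  have : Fact (Nat.Prime 11) := ⟨by norm_num⟩
  obtain ⟨z, hz, hzi⟩ := exists_central_involution (G := K) (by rw [C.card]; norm_num)
  refine hasDZ_of_not_inverted z (by rw [← pow_two, ← hz, pow_orderOf_eq_one]) ?_
    fun x hx => not_real e hx
  intro hd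
  obtain ⟨⟨y, hyz⟩, hy⟩ := exists_prime_orderOf_dvd_card' 11 hd
  rw [Subgroup.orderOf_mk] at hy
  have hy11 : y ^ 11 = 1 := by rw [← hy, pow_orderOf_eq_one]
  have hy1 : y ≠ 1 := by
    rintro rfl
    rw [orderOf_one] at hy
    norm_num at hy
  obtain ⟨d, hd⟩ := exists_eleven C hy11
  have hz2 : z ^ 2 = 1 := by rw [← hz, pow_orderOf_eq_one]
  rcases two_eleven e hy11 hy1 hd (mem_centralizer_singleton_iff.1 hyz).symm (by
    rw [show (4 : ℕ) = 2 * 2 from rfl, pow_mul, hz2, one_pow]) with h | h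
  · rw [h, orderOf_one] at hz
    norm_num at hz
  · apply hzi
    have h1 := (centralizer ({z} : Set K)).index_mul_card
    rw [h, C.card_cent hd.1, C.card] at h1
    rw [h]
    omega

include e in
theorem exists_22 : ∃ x : K, orderOf x = 22 := by
  have C := Inst.ctx e
  have hfin := C.finite
  have : Fact (Nat.Prime 11) := ⟨by norm_num⟩
  obtain ⟨y, hy⟩ := exists_prime_orderOf_dvd_card' (G := K) 11 (by rw [C.card]; norm_num)
  have hy11 : y ^ 11 = 1 := by rw [← hy, pow_orderOf_eq_one]
  obtain ⟨d, hd⟩ := exists_eleven C hy11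
  have hd2 : orderOf d = 2 := orderOf_eq_prime (by rw [pow_two]; exact C.sq d hd.1) (C.ne1 d hd.1)
  refine ⟨y * d, ?_⟩
  have h1 := (show Commute y d from hd.2).orderOf_mul_eq_mul_orderOf_of_coprime (by rw [hy, hd2]; norm_num)
  rw [h1, hy, hd2]

include e in
/-- elements of order 13 are self-centralizing -/
theorem cent_13 {y : K} (hy : orderOf y = 13) : Nat.card (centralizer ({y} : Set K)) = 13 := by
  have C := Inst.ctx e
  have hfin := C.finite
  have : Fact (Nat.Prime 13) := ⟨by norm_num⟩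
  refine card_centralizer_of_orders' (factorization_eq_one (by rw [C.card]; norm_num)
    (by rw [C.card]; norm_num)) hy fun x hx => ?_
  exact Cfsg.Agent.PreUniqCo.FiTwentyTwo.thirteen e hy hx

include e in
theorem hasDZ_13 : HasDZ 13 K := by
  have C := Inst.ctx e
  have hfin := C.finite
  have : Fact (Nat.Prime 13) := ⟨by norm_num⟩
  obtain ⟨d, π, lift, B⟩ := exists_base_of e
  have hd := B.mem
  have hd2 : orderOf d = 2 := orderOf_eq_prime (by rw [pow_two]; exact C.sq d hd) (C.ne1 d hd)
  obtain ⟨z, hz, hzd⟩ := exists_not_isConj_of_even hd2 (by rw [C.card_cent hd, C.card]; norm_num)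
  refine hasDZ_of_two_classes (fun u hu hdu => ?_) hd2 hz hzd
  obtain ⟨⟨y, hyu⟩, hy⟩ := exists_prime_orderOf_dvd_card' 13 hdu
  rw [Subgroup.orderOf_mk] at hy
  have h1 := Cfsg.Agent.PreUniqCo.FiTwentyTwo.thirteen e hy (mem_centralizer_singleton_iff.1 hyu).symm
  have h2 : orderOf u ∣ 13 := orderOf_dvd_of_pow_eq_one h1
  rw [hu] at h2
  norm_num at h2

/-- **The row of `Fi₂₂`.** -/
theorem row_fi22 {S : Type v} [Group S] (h : Spor.IsoFi22 S) : Row.{u, v} S := by
  obtain ⟨e⟩ := h
  have hfin := (Inst.ctx e).finite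
  have : Fact (Nat.Prime 11) := ⟨by norm_num⟩
  obtain ⟨x, hx⟩ := exists_22 e
  exact Row.of_dz (p := 11) (by norm_num) (hasDZ_11 e) (y := x) (by rw [hx]; norm_num) (by rw [hx]; norm_num)

end Cfsg.Agent.H713.Spor.Fi22
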