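import Cfsg.Agent.H710.VanCount
import Cfsg.Agent.KFacts.FiTTh.Has
import Cfsg.Agent.H997.OutCard
import Cfsg.Agent.FastGrp
import Cfsg.Agent.Prune
set_option linter.all false
prune_inst 0x7f00000000000000000000000000000000000000000000000000000000000000000000000000000000000000000000000000000000000000000000000000000000000000000000000000000000000000003fffffffffffffffffffffffffffbeffbdffffffff
open scoped Cfsg.Agent.FastGrp

/-!
# `Fi₂₃`: characters of defect zero, and the row (helper713)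

* `not_dvd` : a prime `p > 3` dividing neither `|Fi₂₂|` nor the order of `C(z0, a)` does not divide
  the order of the centralizer of an involution
* `hasDZ_17`, `hasDZ_23`
* `row_fi23` : the row of `Fi₂₃`
-/

set_option autoImplicit false

namespace Cfsg.Agent.H713.Spor.Fi23

open Subgroup
open Cfsg.Agent.Fischer.Fi23Nets
open Cfsg.Agent.Fischer.Fi23Z Cfsg.Agent.Fischer.Fi23Hom Cfsg.Agent.Fischer.Fi23Rel
open Cfsg.Agent.Fischer Cfsg.Agent.Fischer.Fi23Class Cfsg.Agent.Fischer.Fi23Simple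
open Cfsg.Agent.KFacts.FiTTh.Cent
open Cfsg.Spor Cfsg.Spor.Fi23
open Cfsg.Agent.Fischer.Fi23Final (gen_sq)
open Cfsg.Agent.H665.NoPQ

universe u v

/-- an element of prime order `p > 3` commuting with `W` fixes the points -/
theorem fixed_of_prime {W : Fi23} {Ds Xs : Set Fi23} {P : Finset ℕ} (hcard : P.card ≤ 3)
    (hW : ∀ p < 31671, rho W p = p → ∀ d ∈ Ds, rho d p = p)
    (hP : ∀ p < 31671, rho W p = p → (∀ x ∈ Xs, rho x p = p) → p ∈ P)
    (hX : ∀ x ∈ Xs, IsConj z0 x) (hWX : ∀ x ∈ Xs, W * x = x * W) (hWD : ∀ d ∈ Ds, W * d = d * W)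
    {y h : Fi23} (hy : y * W = W * y) (hd : h * z0 * h⁻¹ ∈ Ds) {p : ℕ} (hp : p.Prime) (h3 : 3 < p)
    (ho : y ^ p = 1) : rho y (rho h 0) = rho h 0 := by
  have hmem : ∀ k : ℕ, rho (y ^ k) (rho h 0) ∈ P := by
    intro k
    have hk : y ^ k * W = W * y ^ k := (Commute.pow_left (show Commute y W from hy) k).eq
    exact stable (P := (P : Set ℕ)) hW hP hX hWX hWD hk hd
  have hex : ∃ i j : Fin 4, i < j ∧ rho (y ^ (i : ℕ)) (rho h 0) = rho (y ^ (j : ℕ)) (rho h 0) := by
    by_contra hcon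
    push Not at hcon
    have hinj : Function.Injective (fun i : Fin 4 => (⟨rho (y ^ (i : ℕ)) (rho h 0), hmem i⟩ : P)) := by
      intro i j hij
      have hij' := congrArg Subtype.val hij
      rcases lt_trichotomy i j with h1 | h1 | h1
      · exact absurd hij' (hcon i j h1)
      · exact h1
      · exact absurd hij'.symm (hcon j i h1)
    have := Fintype.card_le_of_injective _ hinj
    simp only [Fintype.card_fin, Fintype.card_coe] at this
    omega
  obtain ⟨i, j, hij, he⟩ := hex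
  have h6 : ∀ k : ℕ, rho (y ^ (6 * k)) (rho h 0) = rho h 0 := by
    obtain ⟨m, hm1, hm2, hm⟩ : ∃ m : ℕ, 1 ≤ m ∧ m ≤ 3 ∧ rho (y ^ m) (rho h 0) = rho h 0 := by
      refine ⟨(j : ℕ) - i, by omega, by omega, ?_⟩
      have e : y ^ (j : ℕ) = y ^ (i : ℕ) * y ^ ((j : ℕ) - i) := by
        rw [← pow_add]; congr 1; omega
      rw [e, map_mul, Equiv.Perm.mul_apply] at he
      exact ((rho (y ^ (i : ℕ))).injective he).symm
    have hpow : ∀ k : ℕ, rho (y ^ (m * k)) (rho h 0) = rho h 0 := by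
      intro k
      induction k with
      | zero => simp
      | succ k ih => rw [Nat.mul_succ, pow_add, map_mul, Equiv.Perm.mul_apply, hm, ih]
    intro k
    have hm3 : m = 1 ∨ m = 2 ∨ m = 3 := by omega
    rcases hm3 with rfl | rfl | rfl
    · have := hpow (6 * k)
      rwa [one_mul] at this
    · have := hpow (3 * k)
      rwa [← mul_assoc] at this
    · have := hpow (2 * k)
      rwa [← mul_assoc] at this
  have hcop : Nat.Coprime 6 p := by
    have h1 : Nat.Coprime 2 p := (Nat.coprime_primes Nat.prime_two hp).2 (by omega)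
    have h2 : Nat.Coprime 3 p := (Nat.coprime_primes Nat.prime_three hp).2 (by omega)
    exact Nat.Coprime.mul_left (k := p) (m := 2) (n := 3) h1 h2
  obtain ⟨k, -, hk⟩ := Nat.exists_mul_mod_eq_one_of_coprime hcop hp.one_lt
  have h7 := h6 k
  have h8 : y ^ (6 * k) = y := by
    conv_lhs => rw [← Nat.mod_add_div (6 * k) p, pow_add, pow_mul, ho, one_pow, mul_one, hk, pow_one]
  rwa [h8] at h7

theorem card_C2' : Nat.card C2 = 36787322880 := by
  have h := card_C2
  generalize Nat.card C2 = n at h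
  omega

theorem finite_fi23 : Finite Fi23 := Nat.finite_of_card_ne_zero (by rw [card_Fi23]; norm_num)

theorem not_dvd_of_prime {W : Fi23} {p : ℕ} (hp : p.Prime) (hC : ¬ p ∣ 36787322880)
    (h : ∀ y : Fi23, y * W = W * y → y ^ p = 1 → y ∈ C2) :
    ¬ p ∣ Nat.card (centralizer ({W} : Set Fi23)) := by
  intro hd
  have : Fact p.Prime := ⟨hp⟩
  have hfin : Finite Fi23 := finite_fi23
  obtain ⟨y, hy⟩ := exists_prime_orderOf_dvd_card' p hd
  have h1 : (y : Fi23) ∈ C2 := by
    apply h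
    · exact mem_centralizer_singleton_iff.1 y.2
    · have := pow_orderOf_eq_one y
      rw [hy] at this
      have h2 := congrArg Subtype.val this
      rwa [Subgroup.coe_pow, Subgroup.coe_one] at h2
  apply hC
  rw [← card_C2']
  have h3 : orderOf (⟨(y : Fi23), h1⟩ : C2) = p := by
    rw [← hy]
    rw [← Subgroup.orderOf_coe, ← Subgroup.orderOf_coe y]
  rw [← h3]
  exact orderOf_dvd_natCard _

theorem not_dvd_W2 {p : ℕ} (hp : p.Prime) (h3 : 3 < p) (hC : ¬ p ∣ 36787322880) :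
    ¬ p ∣ Nat.card (centralizer ({z0 * gen .a} : Set Fi23)) := by
  apply not_dvd_of_prime (W := W2) hp hC
  intro y hy ho
  obtain ⟨h, hh, hpt⟩ := exists_a
  have f := fun (h : Fi23) (hd : h * z0 * h⁻¹ ∈ Ds2) =>
    fixed_of_prime (P := {0, 11589}) (by decide) hW2 hP2 hX2 hWX2 hWD2 hy hd hp h3 ho
  refine ⟨?_, ?_⟩
  · have := f 1 (by rw [one_mul, inv_one, mul_one]; exact Or.inl rfl)
    simpa using this
  · have := f h (by rw [hh]; exact Or.inr rfl)
    rwa [hpt] at this

theorem not_dvd_W3 {p : ℕ} (hp : p.Prime) (h3 : 3 < p) (hC : ¬ p ∣ 36787322880) :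
    ¬ p ∣ Nat.card (centralizer ({z0 * gen .a * gen .c} : Set Fi23)) := by
  apply not_dvd_of_prime (W := W3) hp hC
  intro y hy ho
  obtain ⟨h, hh, hpt⟩ := exists_a
  have f := fun (h : Fi23) (hd : h * z0 * h⁻¹ ∈ Ds3) =>
    fixed_of_prime (P := {0, 8003, 11589}) (by decide) hW3 hP3 hX3 hWX3 hWD3 hy hd hp h3 ho
  refine ⟨?_, ?_⟩
  · have := f 1 (by rw [one_mul, inv_one, mul_one]; exact Or.inl rfl)
    simpa using this
  · have := f h (by rw [hh]; exact Or.inr (Or.inl rfl))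
    rwa [hpt] at this

theorem card_z0 : Nat.card (centralizer ({z0} : Set Fi23)) = 2 * 64561751654400 := by
  rw [← K_eq]
  exact card_K

/-- The orders of the centralizers of involutions. -/
theorem not_dvd {p : ℕ} (hp : p.Prime) (h3 : 3 < p) (hz : ¬ p ∣ 2 * 64561751654400)
    (hC : ¬ p ∣ 36787322880) (u : Fi23) (hu : orderOf u = 2) :
    ¬ p ∣ Nat.card (centralizer ({u} : Set Fi23)) := by
  obtain ⟨h1, h2⟩ := Cfsg.Agent.H713.orderOf_two hu
  rcases Cfsg.Agent.KFacts.FiTTh.Has.inv u h1 h2 with h | h | h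
  · rw [Cfsg.Agent.KFacts.FiTTh.Has.card_cent_of_isConj h, card_z0]
    exact hz
  · rw [Cfsg.Agent.KFacts.FiTTh.Has.card_cent_of_isConj h]
    exact not_dvd_W2 hp h3 hC
  · rw [Cfsg.Agent.KFacts.FiTTh.Has.card_cent_of_isConj h]
    exact not_dvd_W3 hp h3 hC

theorem orderOf_z0 : orderOf (z0 : Fi23) = 2 :=
  orderOf_eq_prime (by rw [pow_two]; exact Cfsg.Agent.KFacts.FiTTh.Cent.zz) Cfsg.Agent.KFacts.FiTTh.BasFi.z0_ne

theorem orderOf_W2 : orderOf (z0 * gen .a : Fi23) = 2 := by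
  refine orderOf_eq_prime ?_ ?_
  · have ha : (gen .a : Fi23) * gen .a = 1 := gen_sq .a
    rw [pow_two]
    calc z0 * gen .a * (z0 * gen .a) = z0 * (gen .a * z0) * gen .a := by group
      _ = z0 * z0 * (gen .a * gen .a) := by rw [za]; group
      _ = 1 := by rw [Cfsg.Agent.KFacts.FiTTh.Cent.zz, ha, one_mul]
  · intro h
    have ha : (gen .a : Fi23) * gen .a = 1 := gen_sq .a
    apply ne_gen_a
    rw [mul_eq_one_iff_eq_inv, ← mul_eq_one_iff_eq_inv.1 ha] at h
    exact h.symm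

theorem hasDZ {p : ℕ} [hp : Fact p.Prime] (h3 : 3 < p) (hz : ¬ p ∣ 2 * 64561751654400)
    (hC : ¬ p ∣ 36787322880) : HasDZ p Fi23 := by
  have := finite_fi23
  refine hasDZ_of_two_classes (not_dvd hp.out h3 hz hC) orderOf_z0 orderOf_W2 ?_
  intro h
  have h2 := thirteen
  rw [Cfsg.Agent.KFacts.FiTTh.Has.card_cent_of_isConj h] at h2
  exact c2 h2

instance fact_17 : Fact (Nat.Prime 17) := ⟨by norm_num⟩
instance fact_23 : Fact (Nat.Prime 23) := ⟨by norm_num⟩

theorem hasDZ_17 : HasDZ 17 Fi23 := hasDZ (by norm_num) (by norm_num) (by norm_num)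
theorem hasDZ_23 : HasDZ 23 Fi23 := hasDZ (by norm_num) (by norm_num) (by norm_num)

/-- **The row of `Fi₂₃`.** -/
theorem row_fi23 {S : Type v} [Group S] (h : Cfsg.Spor.IsoFi23 S) : Row.{u, v} S := by
  obtain ⟨e⟩ := h
  refine Row.mulEquiv (S := Fi23) ?_ e.symm
  have := finite_fi23
  have hout : Nat.card (Cfsg.Out Cfsg.Spor.Fi23) = 1 := by
    rw [Cfsg.Agent.H997.OutCard.card_eq_one Cfsg.Agent.KFacts.FiTTh.Has.inn]
  refine Row.of_arith_primes (o := 1) (card_mulAut_dvd hout.dvd) ?_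
  intro d hd
  rw [Nat.dvd_one] at hd
  subst hd
  refine ⟨23, by norm_num, by norm_num, factorization_eq_one ?_ ?_, hasDZ_23, by norm_num, ?_⟩
  · rw [card_Fi23]; norm_num
  · rw [card_Fi23]; norm_num
  · rw [card_Fi23]; norm_num

end Cfsg.Agent.H713.Spor.Fi23
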