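import Cfsg.Agent.H713.Spor.MOf
import Cfsg.Agent.MonsterU.Uncond
import Cfsg.Agent.H850.MonSub
import Cfsg.Agent.Prune
set_option linter.all false
prune_inst 0x7f00000000000000000000000000000000000000000000000000000000000000000000000000000000000000000000000000000000000000000000000000000000000000000000000000000000000000003fffffffffffffffffffffffffffbeffbdffffffff
open scoped Cfsg.Agent.FastGrp

/-!
# The Monster: characters of defect zero, and the row (helper713)

* `hasDZ_29`, `hasDZ_41`, `hasDZ_59`, `hasDZ_71`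
* `exists_29` : an element of order divisible by `29` and different from `29`
* `row_m` : the row of the Monster
-/

set_option autoImplicit false

namespace Cfsg.Agent.H713.Spor.M

open Cfsg Cfsg.Agent.MonsterX.Model Cfsg.Agent.MonsterX.MainSimple Cfsg.Agent.MonsterX.MainBasic
  Cfsg.Agent.H665.NoPQ

universe u v

variable {S : Type v} [Group S]

theorem card_eq (h : Spor.IsoM S) :
    Nat.card S = 808017424794512875886459904961710757005754368000000000 := by
  obtain ⟨e⟩ := h
  obtain ⟨f⟩ := Cfsg.Agent.MonsterP.Equiv.equiv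
  have A := Cfsg.Agent.MonsterU.Uncond.all
  rw [Nat.card_congr (e.trans f).toEquiv]
  exact (isM A.hG A.hR A.hL A.hO A.hT).2

theorem hasDZ (h : Spor.IsoM S) {p : ℕ} [Fact p.Prime]
    (h1 : ¬ p ∣ 2 ^ 25 * 4157776806543360000) (h2 : ¬ p ∣ 2 * 4154781481226426191177580544000000) :
    HasDZ p S := by
  obtain ⟨e⟩ := h
  obtain ⟨f⟩ := Cfsg.Agent.MonsterP.Equiv.equiv
  exact Cfsg.Agent.H713.HasDZ.mulEquiv (e.trans f).symm (MOf.hasDZ Cfsg.Agent.MonsterU.Uncond.all h1 h2)

instance fact_29 : Fact (Nat.Prime 29) := ⟨by norm_num⟩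
instance fact_41 : Fact (Nat.Prime 41) := ⟨by norm_num⟩
instance fact_59 : Fact (Nat.Prime 59) := ⟨by norm_num⟩
instance fact_71 : Fact (Nat.Prime 71) := ⟨by norm_num⟩

theorem hasDZ_29 (h : Spor.IsoM S) : HasDZ 29 S := hasDZ h (by norm_num) (by norm_num)
theorem hasDZ_41 (h : Spor.IsoM S) : HasDZ 41 S := hasDZ h (by norm_num) (by norm_num)
theorem hasDZ_59 (h : Spor.IsoM S) : HasDZ 59 S := hasDZ h (by norm_num) (by norm_num)
theorem hasDZ_71 (h : Spor.IsoM S) : HasDZ 71 S := hasDZ h (by norm_num) (by norm_num)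

theorem exists_29 [Finite S] (h : Spor.IsoM S) : ∃ y : S, 29 ∣ orderOf y ∧ orderOf y ≠ 29 := by
  have hc := card_eq h
  refine exists_orderOf_of_not_dvd (factorization_eq_one ?_ ?_) ?_
  · rw [hc]; norm_num
  · rw [hc]; norm_num
  · rw [hc]; norm_num

/-- **The row of the Monster.** -/
theorem row_m [Finite S] (h : Spor.IsoM S) : Row.{u, v} S := by
  obtain ⟨y, hy, hy'⟩ := exists_29 h
  exact Row.of_dz (by norm_num) (hasDZ_29 h) hy hy'

end Cfsg.Agent.H713.Spor.M
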